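import Cfsg.Agent.Lib.FischerThm.Local
import Cfsg.Agent.Lib.FischerExist27.Transport

/-!
# Fischer's theorem, node F23: members of a perp set from their images modulo the centre

Owner: helper38.
-/

set_option autoImplicit false
set_option linter.style.haveILetI false
set_option linter.unusedSectionVars false

namespace Cfsg.Agent.Lib.FischerThm.F23

open Cfsg Cfsg.Agent.Lib.FischerMTypes.Primitive Cfsg.Agent.Lib.FischerMTypes.Unique
open Cfsg.Agent.Lib.FischerMTypes

universe u

variable {G : Type u} [Group G] {D : Set G}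

open Classical in
/-- a member of `perp D a` over an element of the local class -/
noncomputable def lift (D : Set G) (a : G) (q : ↥(Hd D a) ⧸ Subgroup.center ↥(Hd D a)) : G :=
  if h : ∃ x : ↥(Hd D a), (x : G) ∈ perp D a ∧ (x : ↥(Hd D a) ⧸ Subgroup.center ↥(Hd D a)) = q then h.choose else 1

variable [Finite G] (hP : Prim D) {a : G}

theorem lift_spec {q : ↥(Hd D a) ⧸ Subgroup.center ↥(Hd D a)} (hq : q ∈ perpClass D a) :
    ∃ h : lift D a q ∈ perp D a, im D a h = q := by
  have hx : ∃ x : ↥(Hd D a), (x : G) ∈ perp D a ∧ (x : ↥(Hd D a) ⧸ Subgroup.center ↥(Hd D a)) = q := hq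
  rw [lift, dif_pos hx]
  exact ⟨hx.choose_spec.1, hx.choose_spec.2⟩

theorem lift_mem {q : ↥(Hd D a) ⧸ Subgroup.center ↥(Hd D a)} (hq : q ∈ perpClass D a) :
    lift D a q ∈ perp D a := (lift_spec hq).fst

theorem im_lift {q : ↥(Hd D a) ⧸ Subgroup.center ↥(Hd D a)} (hq : q ∈ perpClass D a) :
    im D a (lift_mem hq) = q := (lift_spec hq).snd

theorem im_mem {y : G} (hy : y ∈ perp D a) : im D a hy ∈ perpClass D a :=
  ⟨⟨y, Subgroup.subset_closure hy⟩, hy, rfl⟩

include hP

theorem lift_im (ha : a ∈ D) {y : G} (hy : y ∈ perp D a) : lift D a (im D a hy) = y :=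
  im_injective' hP.hD hP.subsetEq ha (lift_mem (im_mem hy)) hy (im_lift (im_mem hy))

theorem lift_inj {q r : ↥(Hd D a) ⧸ Subgroup.center ↥(Hd D a)} (hq : q ∈ perpClass D a)
    (hr : r ∈ perpClass D a) (h : lift D a q = lift D a r) : q = r := by
  rw [← im_lift hq, ← im_lift hr]
  congr 1

theorem lift_comm {q r : ↥(Hd D a) ⧸ Subgroup.center ↥(Hd D a)} (hq : q ∈ perpClass D a)
    (hr : r ∈ perpClass D a) : Commute (lift D a q) (lift D a r) ↔ Commute q r := by
  rw [← im_commute_iff hP.hD (lift_mem hq) (lift_mem hr), im_lift hq, im_lift hr]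

theorem lift_conj (ha : a ∈ D) {q r : ↥(Hd D a) ⧸ Subgroup.center ↥(Hd D a)} (hq : q ∈ perpClass D a)
    (hr : r ∈ perpClass D a) : lift D a q * lift D a r * lift D a q = lift D a (q * r * q) := by
  have hc := (perp_closed hP.hD a).2 _ (lift_mem hq) _ (lift_mem hr)
  rw [← lift_im hP ha hc]
  congr 1
  exact (show im D a hc = im D a (lift_mem hq) * im D a (lift_mem hr) * im D a (lift_mem hq) from rfl).trans
    (by rw [im_lift hq, im_lift hr])

/-- the type of the local group is the same at every member -/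
theorem typeM22_at {d : G} (hd : d ∈ D) (h : Cfsg.IsOfTypeM22 _ (perpClass D d)) {p : G} (hp : p ∈ D) :
    Cfsg.IsOfTypeM22 _ (perpClass D p) := by
  obtain ⟨g, rfl⟩ := hP.hprim.1 d hd p hp
  exact FischerExist27.typeM22_of_equiv (hP.perpEquiv g d) (hP.perpEquiv_image g d).symm h

end Cfsg.Agent.Lib.FischerThm.F23
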