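import Cfsg.Agent.Lib.FischerThm.F23.Lift
import Cfsg.Agent.Lib.FischerM23C90.Trace.Pinned
import Cfsg.Agent.Lib.FischerExist27.Model
import Cfsg.Agent.Lib.FischerUniq91.Trace
import Cfsg.Agent.Lib.FischerMTypes.Connected

/-!
# Fischer's theorem, node F23: a local group of type M(22) gives type M(23)

The common neighbours of a non-commuting pair form, in the numbering of the local class by 3510
points, a closed set of valency 126, which is labelled by the 351 reflecting vectors.

Owner: helper38.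
-/

set_option autoImplicit false
set_option maxRecDepth 20000
set_option linter.style.haveILetI false
set_option linter.unusedSectionVars false

namespace Cfsg.Agent.Lib.FischerThm.F23

open Cfsg Cfsg.Agent.Lib.FischerMTypes.Primitive Cfsg.Agent.Lib.FischerMTypes.Basic
open Cfsg.Agent.Lib.FischerMTypes.Unique
open Cfsg.Agent.Lib.FischerM23C90 (Trace.Model Trace.Valid Trace.nbr Trace.PathAt Trace.act)

universe u

variable {G : Type u} [Group G] [Finite G] {D : Set G}

/-- the local class at a member is primitive -/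
theorem local_prim (hP : Prim D) {d : G} (hd : d ∈ D) (h : Cfsg.IsOfTypeM22 _ (perpClass D d)) :
    Cfsg.IsPrimitiveUnderConj (perpClass D d) :=
  FischerMTypes.Connected.primitive_of_M22 (hP.perpClass_group hd) h

/-- two non-commuting members with a common neighbour, one of them given -/
theorem exists_far (hP : Prim D) {d : G} (hd : d ∈ D) (h : Cfsg.IsOfTypeM22 _ (perpClass D d)) :
    ∃ c ∈ D, ¬ Commute d c ∧ (perp₂ D d c).Nonempty := by
  obtain ⟨p, hp, hne, hdp⟩ := hP.wall d hd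
  have hdp' : d ∈ perp D p := ⟨hd, Ne.symm hne, hdp.symm⟩
  have h' := typeM22_at hP hd h hp
  set q := im D p hdp' with hq
  obtain ⟨r, hr, hqr⟩ : ∃ r ∈ perpClass D p, ¬ Commute q r := by
    by_contra hcon
    push Not at hcon
    have hle : (⊤ : Subgroup (↥(Hd D p) ⧸ Subgroup.center ↥(Hd D p))) ≤ Subgroup.centralizer {q} := by
      rw [← (hP.perpClass_group hp).2.2, Subgroup.closure_le]
      exact fun y hy => Subgroup.mem_centralizer_singleton_iff.2 (hcon y hy).eq.symm
    have hz : q ∈ Subgroup.center (↥(Hd D p) ⧸ Subgroup.center ↥(Hd D p)) :=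
      Subgroup.mem_center_iff.2 fun g => Subgroup.mem_centralizer_singleton_iff.1 (hle (Subgroup.mem_top g))
    rw [h'.1, Subgroup.mem_bot] at hz
    exact im_ne_one' hP.subsetEq hp hdp' hz
  have hc := lift_mem hr
  refine ⟨lift D p r, hc.1, fun hcm => hqr ?_, p, ⟨hp, hne, hdp⟩, hp, Ne.symm hc.2.1, hc.2.2.symm⟩
  rw [hq, ← im_lift hr, im_commute_iff hP.hD]
  exact hcm

variable (hP : Prim D) {d c : G} (hd : d ∈ D) (hc : c ∈ D) (hdc : ¬ Commute d c)
variable {ν : ℕ → ↥(Hd D d) ⧸ Subgroup.center ↥(Hd D d)}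

/-- the numbers of the common neighbours -/
def pts (ν : ℕ → ↥(Hd D d) ⧸ Subgroup.center ↥(Hd D d)) (c : G) : Set ℕ :=
  {i | i < 3510 ∧ Commute (lift D d (ν i)) c}

include hP hd hc hdc in
/-- the common neighbours are the points with these numbers -/
theorem trace_eq (M : Trace.Model (perpClass D d) ν) :
    perp₂ D d c = (fun i => lift D d (ν i)) '' pts ν c := by
  ext x
  constructor
  · rintro ⟨hx, hx'⟩
    obtain ⟨i, hi, hix⟩ := M.surj _ (im_mem hx)
    have e : lift D d (ν i) = x := by rw [hix, lift_im hP hd hx]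
    exact ⟨i, ⟨hi, by rw [e]; exact hx'.2.2.symm⟩, e⟩
  · rintro ⟨i, ⟨hi, hic⟩, rfl⟩
    have h := lift_mem (M.mem i hi)
    exact ⟨h, h.1, fun e => hdc (e ▸ h.2.2), hic.symm⟩

include hP hd hc hdc in
/-- they form an admissible set -/
theorem trace_valid (h : Cfsg.IsOfTypeM22 _ (perpClass D d)) (M : Trace.Model (perpClass D d) ν)
    (hne : (perp₂ D d c).Nonempty) :
    Trace.Valid (pts ν c) ∧ ∃ p ∈ pts ν c, ∃ w, Trace.PathAt (pts ν c) p w := by
  classical
  have hcomm : ∀ i < 3510, ∀ j < 3510,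
      Commute (lift D d (ν i)) (lift D d (ν j)) ↔ Trace.act i j = j :=
    fun i hi j hj => (lift_comm hP (M.mem i hi) (M.mem j hj)).trans (M.comm_iff hi hj)
  have hinj : ∀ i < 3510, ∀ j < 3510, lift D d (ν i) = lift D d (ν j) → i = j :=
    fun i hi j hj e => M.inj i hi j hj (lift_inj hP (M.mem i hi) (M.mem j hj) e)
  have hclosed : ∀ i ∈ pts ν c, ∀ j ∈ pts ν c, Trace.act i j ∈ pts ν c := by
    rintro i ⟨hi, hic⟩ j ⟨hj, hjc⟩
    refine ⟨M.act_lt i hi j hj, ?_⟩
    rw [← M.conj i hi j hj, ← lift_conj hP hd (M.mem i hi) (M.mem j hj)]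
    exact (hic.mul_left hjc).mul_left hic
  have key : ∀ p ∈ pts ν c, ∃ (P : G) (hPD : P ∈ D) (ζ β : ↥(Hd D P) ⧸ Subgroup.center ↥(Hd D P)),
      ζ ∈ perpClass D P ∧ β ∈ perpClass D P ∧ ¬ Commute ζ β ∧
      (∀ i ∈ Trace.nbr (pts ν c) p, ∃ u ∈ perp₂ (perpClass D P) ζ β, lift D P u = lift D d (ν i)) ∧
      ∀ u ∈ perp₂ (perpClass D P) ζ β, ∃ i ∈ Trace.nbr (pts ν c) p, lift D P u = lift D d (ν i) := by
    rintro p ⟨hp, hpc⟩
    have hp' := lift_mem (M.mem p hp)
    set P := lift D d (ν p) with hPdef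
    have hdP : d ∈ perp D P := ⟨hd, Ne.symm hp'.2.1, hp'.2.2.symm⟩
    have hcP : c ∈ perp D P := ⟨hc, fun e => hdc (e ▸ hp'.2.2), hpc⟩
    refine ⟨P, hp'.1, im D P hdP, im D P hcP, im_mem hdP, im_mem hcP,
      fun e => hdc ((im_commute_iff hP.hD hdP hcP).1 e), ?_, ?_⟩
    · rintro i ⟨⟨hi, hic⟩, hne, hfix⟩
      have hI := lift_mem (M.mem i hi)
      have hu : lift D d (ν i) ∈ perp D P :=
        ⟨hI.1, fun e => hne (hinj i hi p hp e), (hcomm p hp i hi).2 hfix⟩
      refine ⟨im D P hu, ⟨⟨im_mem hu, fun e => hI.2.1 ?_, ?_⟩, im_mem hu, fun e => ?_, ?_⟩, lift_im hP hp'.1 hu⟩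
      · exact im_injective' hP.hD hP.subsetEq hp'.1 hu hdP e
      · exact (im_commute_iff hP.hD hdP hu).2 hI.2.2
      · exact hdc (im_injective' hP.hD hP.subsetEq hp'.1 hu hcP e ▸ hI.2.2)
      · exact (im_commute_iff hP.hD hcP hu).2 hic.symm
    · rintro u ⟨⟨hu, hne, hζu⟩, -, -, hβu⟩
      have hU := lift_mem hu
      have h1 : Commute d (lift D P u) := by
        rw [← im_commute_iff hP.hD hdP hU, im_lift hu]; exact hζu
      have h2 : Commute c (lift D P u) := by
        rw [← im_commute_iff hP.hD hcP hU, im_lift hu]; exact hβu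
      have hne' : lift D P u ≠ d := fun e => hne (by
        rw [← im_lift hu]; congr 1)
      have hUd : lift D P u ∈ perp D d := ⟨hU.1, hne', h1⟩
      obtain ⟨i, hi, hiu⟩ := M.surj _ (im_mem hUd)
      have e : lift D d (ν i) = lift D P u := by rw [hiu, lift_im hP hd hUd]
      refine ⟨i, ⟨⟨hi, by rw [e]; exact h2.symm⟩, fun e' => hU.2.1 ?_, (hcomm p hp i hi).1 ?_⟩, e.symm⟩
      · rw [← e, e']
      · rw [e]; exact hU.2.2
  have hval : ∀ p ∈ pts ν c, (Trace.nbr (pts ν c) p).ncard = 126 ∧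
      ∃ w, Trace.PathAt (pts ν c) p w := by
    intro p hp
    obtain ⟨P, hPD, ζ, β, hζ, hβ, hnc, hfwd, hback⟩ := key p hp
    have hP' := typeM22_at hP hd h hPD
    obtain ⟨F, iF, iF', ⟨S⟩⟩ := FischerMTypes.TraceCounts.exists_sys (hP.perpClass_group hPD)
      (local_prim hP hPD hP') hP'
    refine ⟨?_, ?_⟩
    · have e : lift D P '' perp₂ (perpClass D P) ζ β =
          (fun i => lift D d (ν i)) '' Trace.nbr (pts ν c) p := by
        ext x
        constructor
        · rintro ⟨u, hu, rfl⟩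
          obtain ⟨i, hi, e⟩ := hback u hu
          exact ⟨i, hi, e.symm⟩
        · rintro ⟨i, hi, rfl⟩
          exact hfwd i hi
      have e' := congrArg Set.ncard e
      rw [Set.InjOn.ncard_image (fun u hu v hv => lift_inj hP hu.1.1 hv.1.1),
        Set.InjOn.ncard_image (fun u hu v hv => hinj u hu.1.1 v hv.1.1),
        FischerMTypes.TraceSize.ncard_trace S hζ hβ hnc] at e'
      exact e'.symm
    · obtain ⟨w, hw, hpat⟩ := FischerUniq91.Trace.exists_path S hζ hβ hnc
      choose i hi hli using fun k => hback (w k) (hw k)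
      refine ⟨i, hi, fun j k => ?_⟩
      rw [← hcomm _ (hi j).1.1 _ (hi k).1.1, ← hli, ← hli, lift_comm hP (hw j).1.1 (hw k).1.1]
      exact hpat j k
  obtain ⟨x, hx⟩ := hne
  rw [trace_eq hP hd hc hdc M] at hx
  obtain ⟨p, hp, -⟩ := hx
  exact ⟨⟨fun i hi => hi.1, hclosed, fun p hp => (hval p hp).1⟩, p, hp, (hval p hp).2⟩

include hP hd hc hdc in
/-- the group on the common neighbours -/
theorem trace_refl (h : Cfsg.IsOfTypeM22 _ (perpClass D d)) (hne : (perp₂ D d c).Nonempty) :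
    Cfsg.IsProjReflectionGroupModThree
      (↥(Subgroup.closure (perp₂ D d c)) ⧸ Subgroup.center ↥(Subgroup.closure (perp₂ D d c))) 7 (-1) 1 := by
  obtain ⟨ν, M⟩ := FischerM23C90.Trace.exists_model (hP.perpClass_group hd) (local_prim hP hd h) h
  obtain ⟨hvalid, p, hp, w, hw⟩ := trace_valid hP hd hc hdc h M hne
  obtain ⟨a, hainj, har, e, pm, rank, hreach, hrefl, hconj⟩ :=
    FischerM23C90.Trace.Pinned.labelled M hvalid hp hw
  have ha : ∀ i, a i ∈ pts ν c := fun i => har ▸ ⟨i, rfl⟩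
  let a' : Fin 351 → G := fun i => lift D d (ν (a i))
  have ha' : Function.Injective a' := fun i j h =>
    hainj (M.inj _ (ha i).1 _ (ha j).1 (lift_inj hP (M.mem _ (ha i).1) (M.mem _ (ha j).1) h))
  have hcj : ∀ k i, a' (e k) * a' i * (a' (e k))⁻¹ = a' (pm k i) := fun k i => by
    have hu := M.mem _ (ha (e k)).1
    rw [hP.inv (lift_mem hu).1]
    show lift D d (ν (a (e k))) * lift D d (ν (a i)) * lift D d (ν (a (e k))) = lift D d (ν (a (pm k i)))
    rw [lift_conj hP hd hu (M.mem _ (ha i).1), M.conj _ (ha (e k)).1 _ (ha i).1, hconj k i]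
  have hmodel := FischerExist27.reflection_model a' ha' e pm hcj rank hreach FischerM23C90.Trace.vec
    (fun i => by rw [FischerExist27.sumSq_apply]; exact FischerM23C90.Trace.vec_norm i)
    (fun v hv => by
      rw [FischerExist27.sumSq_apply] at hv
      obtain ⟨hlt, hv'⟩ := FischerM23C90.Trace.code_lt v
      have h := FischerM23C90.Trace.vec_cover ⟨_, hlt⟩
      simp only [hv'] at h
      obtain ⟨hp, hh⟩ := h hv
      exact ⟨⟨_, hp⟩, hh⟩)
    (fun i j hij => by
      refine Fin.ext ?_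
      rcases hij with hij | hij
      · rw [← (FischerM23C90.Trace.vec_pos i).1, hij, (FischerM23C90.Trace.vec_pos j).1]
      · rw [← (FischerM23C90.Trace.vec_pos i).1, hij, (FischerM23C90.Trace.vec_pos j).2])
    hrefl
  refine FischerExist27.proj_reflection_of_range a' _ ?_ (-1) (by decide) hmodel
  rw [trace_eq hP hd hc hdc M, ← har, ← Set.range_comp]
  rfl

/-- node F23 -/
theorem nodeF23 : NodeF23.{u} := by
  intro G _ _ D _ hP _ d hd h
  obtain ⟨c, hc, hdc, hne⟩ := exists_far hP hd h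
  exact ⟨hP.hZ, d, hd, c, hc, hdc, h, 1, one_ne_zero, trace_refl hP hd hc hdc h hne⟩

end Cfsg.Agent.Lib.FischerThm.F23
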